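import Groth.Agent.S1841
import Groth.Agent.S0440
import Groth.Agent.Ega2.FiniteSet
import Groth.Prelude.Def_Red
import Mathlib.RingTheory.Artinian.Ring

/-!
# Finite sets of points of group schemes of finite type over Artinian rings lie in affine opens
-/

set_option autoImplicit false

universe u

open CategoryTheory CategoryTheory.Limits AlgebraicGeometry Opposite

namespace K933.WRArtin

theorem exists_affine_of_finite_field (k : Type u) [Field k] (G : Over (Spec (CommRingCat.of k)))
    [GrpObj G] [LocallyOfFiniteType G.hom] [QuasiCompact G.hom] (Z : Set G.left) (hZ : Z.Finite) :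
    ∃ U : G.left.Opens, IsAffineOpen U ∧ Z ⊆ U := by
  obtain ⟨L, hL⟩ := Groth.Agent.S1841.result k G
  obtain ⟨n, s, h1, -, h2⟩ := Groth.Agent.Ega2.FiniteSet.exists_affine_genLocus_of_finite hL Z hZ ⊤
    (Set.subset_univ _)
  exact ⟨_, h2, h1⟩

theorem exists_affine_of_finite_artin (A : Type u) [CommRing A] [IsArtinianRing A]
    (G : Over (Spec (CommRingCat.of A)))
    [GrpObj G] [LocallyOfFiniteType G.hom] [QuasiCompact G.hom] (Z : Set G.left) (hZ : Z.Finite) :
    ∃ U : G.left.Opens, IsAffineOpen U ∧ Z ⊆ U := by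
  let ι : ∀ p : PrimeSpectrum A, Spec (CommRingCat.of (A ⧸ p.asIdeal)) ⟶ Spec (CommRingCat.of A) :=
    fun p => Spec.map (CommRingCat.ofHom (Ideal.Quotient.mk p.asIdeal))
  have hι : ∀ p, IsClosedImmersion (ι p) := fun p =>
    IsClosedImmersion.spec_of_surjective _ Ideal.Quotient.mk_surjective
  have hrange : ∀ p : PrimeSpectrum A, Set.range (ι p) = ({p} : Set (PrimeSpectrum A)) := by
    intro p
    have h1 : Set.range (ι p) = PrimeSpectrum.zeroLocus (p.asIdeal : Set A) := by
      have := range_comap_of_surjective (A ⧸ p.asIdeal)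
        (Ideal.Quotient.mk p.asIdeal) Ideal.Quotient.mk_surjective
      rw [Ideal.mk_ker] at this
      exact this
    rw [h1]
    refine Set.ext fun (q : PrimeSpectrum A) => ?_
    change (p.asIdeal : Set A) ⊆ q.asIdeal ↔ q = p
    constructor
    · intro hq
      have hmax : p.asIdeal.IsMaximal := IsArtinianRing.isMaximal_of_isPrime p.asIdeal
      exact PrimeSpectrum.ext (hmax.eq_of_le q.2.ne_top hq).symm
    · rintro rfl
      exact subset_rfl
  let c : ∀ p : PrimeSpectrum A, pullback G.hom (ι p) ⟶ G.left := fun p => pullback.fst G.hom (ι p)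
  have hc : ∀ p : PrimeSpectrum A, Set.range (c p) = G.hom ⁻¹' ({p} : Set (PrimeSpectrum A)) :=
    fun p => (Scheme.Pullback.range_fst G.hom (ι p)).trans (congrArg _ (hrange p))
  have hinj : ∀ p, Function.Injective (c p) := fun p => (c p).isClosedEmbedding.injective
  have key : ∀ p : PrimeSpectrum A, ∃ U : (pullback G.hom (ι p)).Opens, IsAffineOpen U ∧
      (c p) ⁻¹' Z ⊆ U := by
    intro p
    have hmax : p.asIdeal.IsMaximal := IsArtinianRing.isMaximal_of_isPrime p.asIdeal
    let _ : Field (A ⧸ p.asIdeal) := Ideal.Quotient.field p.asIdeal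
    have h1 : LocallyOfFiniteType (Red.bc (ι p) G).hom := by
      change LocallyOfFiniteType (pullback.snd G.hom (ι p))
      infer_instance
    have h2 : QuasiCompact (Red.bc (ι p) G).hom := by
      change QuasiCompact (pullback.snd G.hom (ι p))
      infer_instance
    exact exists_affine_of_finite_field (A ⧸ p.asIdeal) (Red.bc (ι p) G) ((c p) ⁻¹' Z)
      (hZ.preimage (hinj p).injOn)
  choose U hU hZU using key
  let V : PrimeSpectrum A → G.left.Opens := fun p =>
    ⟨((c p) '' ((U p : Set ↥(pullback G.hom (ι p)))ᶜ))ᶜ ∩ G.hom ⁻¹' ({p} : Set (PrimeSpectrum A)), by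
      refine IsOpen.inter ?_ ?_
      · rw [isOpen_compl_iff]
        apply (c p).isClosedEmbedding.isClosedMap
        rw [isClosed_compl_iff]
        exact (U p).isOpen
      · exact (isOpen_discrete ({p} : Set (PrimeSpectrum A))).preimage G.hom.continuous⟩
  have hVU : ∀ p, c p ⁻¹ᵁ V p = U p := by
    intro p
    ext x
    change (c p x ∈ ((c p) '' ((U p : Set ↥(pullback G.hom (ι p)))ᶜ))ᶜ ∩
      G.hom ⁻¹' ({p} : Set (PrimeSpectrum A))) ↔ x ∈ U p
    constructor
    · rintro ⟨h1, -⟩
      by_contra h2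
      exact h1 ⟨x, h2, rfl⟩
    · intro hx
      refine ⟨?_, ?_⟩
      · rintro ⟨y, hy, hyx⟩
        rw [hinj p hyx] at hy
        exact hy hx
      · rw [← hc p]
        exact ⟨x, rfl⟩
  have hVaff : ∀ p, IsAffineOpen (V p) := by
    intro p
    have h1 : IsAffine (c p ⁻¹ᵁ V p : (pullback G.hom (ι p)).Opens) := by
      rw [hVU p]
      exact hU p
    refine Groth.Agent.S0440.result (c p ∣_ V p) ?_
    intro v
    obtain ⟨x, hx⟩ : v.1 ∈ Set.range (c p) := by
      rw [hc p]
      exact v.2.2
    have hx' : x ∈ c p ⁻¹ᵁ V p := by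
      change c p x ∈ V p
      rw [hx]
      exact v.2
    refine ⟨⟨x, hx'⟩, Subtype.ext ?_⟩
    have h2 := congrArg (fun k => k ⟨x, hx'⟩) (morphismRestrict_ι (c p) (V p))
    exact h2.trans hx
  refine ⟨⨆ p, V p, IsAffineOpen.iSup_of_disjoint hVaff ?_, ?_⟩
  · intro p q hpq
    rw [Function.onFun, disjoint_iff]
    ext x
    constructor
    · rintro ⟨h1, h2⟩
      exact hpq ((h1.2 : G.hom x = p).symm.trans (h2.2 : G.hom x = q))
    · intro h
      exact h.elim
  · intro z hz
    have hz1 : z ∈ Set.range (c (G.hom z)) := by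
      rw [hc]
      rfl
    obtain ⟨x, hx⟩ := hz1
    have hxU : x ∈ U (G.hom z) := hZU _ (by
      change c (G.hom z) x ∈ Z
      rw [hx]
      exact hz)
    rw [← hVU (G.hom z)] at hxU
    have h3 : z ∈ V (G.hom z) := by
      rw [← hx]
      rw [hx]
      have h4 : c (G.hom z) x ∈ V (G.hom z) := hxU
      rw [hx] at h4
      exact h4
    exact TopologicalSpace.Opens.mem_iSup.mpr ⟨G.hom z, h3⟩

end K933.WRArtin
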