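import Groth.Agent.WeilRes.K933.WRSheaf
import Mathlib.AlgebraicGeometry.Morphisms.Proper
import Mathlib.AlgebraicGeometry.Morphisms.UniversallyClosed

/-!
# Representability of Weil restrictions from open charts

`f : S' → S` universally closed, `X'` over `S'` and `(U j)` opens of `X'` whose Weil restrictions are
representable; if every fibre of every `T ×_S S' → T` is carried by `y : T ×_S S' → X'` into one of
the `U j`, then the Weil restriction of `X'` is representable.
-/

set_option autoImplicit false

universe u

open CategoryTheory CategoryTheory.Limits AlgebraicGeometry Opposite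

namespace K933.WRAtlas

open Groth.Agent.Sga3B.RepDescent K933.WRSheaf

variable {S S' : Scheme.{u}} (f : S' ⟶ S) (X' : Over S')

/-- an open subscheme of `X'`, over `S'` -/
noncomputable abbrev opn (U : X'.left.Opens) : Over S' := Over.mk (U.ι ≫ X'.hom)

/-- the inclusion of an open subscheme of `X'` -/
noncomputable abbrev inc (U : X'.left.Opens) : opn X' U ⟶ X' := Over.homMk U.ι rfl

instance mono_inc (U : X'.left.Opens) : Mono (inc X' U) := by
  have : Mono (inc X' U).left := by
    change Mono U.ι
    infer_instance
  exact (Over.forget S').mono_of_mono_map (by simpa using this)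

variable {f X'}

theorem map_univ {U : X'.left.Opens} {R : Over S}
    (r : (WeilRes.functor f (opn X' U)).RepresentableBy R) {Q : Over S} (m : Q ⟶ R) :
    (Over.pullback f).map m ≫ r.homEquiv (𝟙 R) = r.homEquiv m :=
  (r.homEquiv_eq m).symm

/-- The atlas of the Weil restriction functor defined by open subschemes with representable Weil
restrictions. -/
noncomputable def atlas [UniversallyClosed f] {J : Type u} (U : J → X'.left.Opens) (R : J → Over S)
    (r : ∀ j, (WeilRes.functor f (opn X' (U j))).RepresentableBy (R j))
    (hAF : ∀ (T : Over S) (y : Red.bc f T ⟶ X') (t : T.left), ∃ j,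
      ∀ z : (Red.bc f T).left, pullback.fst T.hom f z = t → y.left z ∈ U j) :
    Atlas (WeilRes.functor f X') where
  ι := J
  W j := R j
  w j := (r j).homEquiv (𝟙 (R j)) ≫ inc X' (U j)
  injective j Q m₁ m₂ h := by
    have h' : (Over.pullback f).map m₁ ≫ (r j).homEquiv (𝟙 (R j)) ≫ inc X' (U j) =
      (Over.pullback f).map m₂ ≫ (r j).homEquiv (𝟙 (R j)) ≫ inc X' (U j) := h
    rw [← Category.assoc, ← Category.assoc, cancel_mono, map_univ, map_univ] at h'
    exact (r j).homEquiv.injective h'
  opens T y j := ⟨(pullback.fst T.hom f '' ((((y : Red.bc f T ⟶ X').left ⁻¹ᵁ U j :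
      (Red.bc f T).left.Opens) : Set (Red.bc f T).left)ᶜ))ᶜ, by
    rw [isOpen_compl_iff]
    apply (pullback.fst T.hom f).isClosedMap
    rw [isClosed_compl_iff]
    exact ((y : Red.bc f T ⟶ X').left ⁻¹ᵁ U j).isOpen⟩
  exists_iff T y j Q g := by
    let y₁ : Red.bc f T ⟶ X' := y
    constructor
    · rintro ⟨m, hm⟩ _ ⟨q, rfl⟩ ⟨z, hz, hzq⟩
      have hm' : (Over.pullback f).map m ≫ (r j).homEquiv (𝟙 (R j)) ≫ inc X' (U j) =
        (Over.pullback f).map g ≫ y₁ := hm
      obtain ⟨z', hz1, hz2⟩ := Scheme.exists_preimage_of_isPullback (isPullback_bc_map f g)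
        z q hzq
      apply hz
      change y₁.left z ∈ U j
      have h1 : y₁.left z = ((Over.pullback f).map g ≫ y₁).left z' := by
        rw [Over.comp_left, Scheme.Hom.comp_apply]
        exact congrArg _ hz1.symm
      rw [h1, ← hm', ← Category.assoc, Over.comp_left, Scheme.Hom.comp_apply]
      exact (((Over.pullback f).map m ≫ (r j).homEquiv (𝟙 (R j))).left z' :
        (opn X' (U j)).left).2
    · intro h
      have hfac : Set.range ((Over.pullback f).map g ≫ y₁).left ⊆ Set.range (U j).ι := by
        rw [Scheme.Opens.range_ι]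
        rintro _ ⟨z', rfl⟩
        have h1 : g.left (pullback.fst Q.hom f z') ∉ pullback.fst T.hom f ''
            (((y₁.left ⁻¹ᵁ U j : (Red.bc f T).left.Opens) : Set (Red.bc f T).left)ᶜ) := h ⟨_, rfl⟩
        by_contra hcon
        apply h1
        refine ⟨((Over.pullback f).map g).left z', ?_, ?_⟩
        · rw [Over.comp_left, Scheme.Hom.comp_apply] at hcon
          exact hcon
        · have := congrArg (fun k => k z') (isPullback_bc_map f g).w
          exact this
      let y' : Red.bc f Q ⟶ opn X' (U j) :=
        Over.homMk (IsOpenImmersion.lift (U j).ι ((Over.pullback f).map g ≫ y₁).left hfac) (by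
          change IsOpenImmersion.lift (U j).ι ((Over.pullback f).map g ≫ y₁).left hfac ≫
            (U j).ι ≫ X'.hom = _
          rw [IsOpenImmersion.lift_fac_assoc]
          exact Over.w ((Over.pullback f).map g ≫ y₁))
      have hy' : y' ≫ inc X' (U j) = (Over.pullback f).map g ≫ y₁ := by
        apply Over.OverMorphism.ext
        exact IsOpenImmersion.lift_fac _ _ _
      refine ⟨(r j).homEquiv.symm y', ?_⟩
      change (Over.pullback f).map ((r j).homEquiv.symm y') ≫ (r j).homEquiv (𝟙 (R j)) ≫
        inc X' (U j) = (Over.pullback f).map g ≫ y₁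
      rw [← Category.assoc, map_univ, Equiv.apply_symm_apply, hy']
  cover T y t := by
    obtain ⟨j, hj⟩ := hAF T y t
    refine ⟨j, ?_⟩
    rintro ⟨z, hz, hzt⟩
    exact hz (hj z hzt)

/-- Representability of a Weil restriction from open charts. -/
theorem exists_representableBy_of_charts [UniversallyClosed f] {J : Type u}
    (U : J → X'.left.Opens) (R : J → Over S)
    (r : ∀ j, (WeilRes.functor f (opn X' (U j))).RepresentableBy (R j))
    (hAF : ∀ (T : Over S) (y : Red.bc f T ⟶ X') (t : T.left), ∃ j,
      ∀ z : (Red.bc f T).left, pullback.fst T.hom f z = t → y.left z ∈ U j) :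
    ∃ A : Over S, Nonempty ((WeilRes.functor f X').RepresentableBy A) :=
  exists_representableBy_of_atlas (atlas U R r hAF) (isEtSheaf_functor f X')

end K933.WRAtlas
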