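import Groth.Prelude.Def_WeilRes

/-!
# Base change on the base for Weil restriction functors

For a cartesian square `V' = V ×_S S'` the restriction to `V`-schemes of the Weil restriction functor
of `X'` along `f : S' → S` is the Weil restriction functor of `X' ×_{S'} V'` along `f' : V' → V`.
-/

set_option autoImplicit false

universe u

open CategoryTheory CategoryTheory.Limits AlgebraicGeometry Opposite

namespace K933.WRBase

variable {S S' V V' : Scheme.{u}} {f : S' ⟶ S} {f' : V' ⟶ V} {v : V ⟶ S} {v' : V' ⟶ S'}

/-- the pasted square -/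
theorem isPullback_paste (h : IsPullback f' v' v f) (T : Over V) :
    IsPullback (pullback.fst T.hom f') (pullback.snd T.hom f' ≫ v') (T.hom ≫ v) f :=
  (IsPullback.of_hasPullback T.hom f').paste_vert h

/-- `T ×_S S' ≅ T ×_V V'` over `S'`. -/
noncomputable def cmpIso (h : IsPullback f' v' v f) (T : Over V) :
    (Over.pullback f).obj ((Over.map v).obj T) ≅ (Over.map v').obj ((Over.pullback f').obj T) :=
  Over.isoMk ((IsPullback.of_hasPullback (T.hom ≫ v) f).isoIsPullback _ _ (isPullback_paste h T))
    (IsPullback.isoIsPullback_hom_snd _ _ _ _)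

lemma cmpIso_hom_fst (h : IsPullback f' v' v f) (T : Over V) :
    (cmpIso h T).hom.left ≫ pullback.fst T.hom f' = pullback.fst (T.hom ≫ v) f :=
  IsPullback.isoIsPullback_hom_fst _ _ (IsPullback.of_hasPullback (T.hom ≫ v) f)
    (isPullback_paste h T)

lemma cmpIso_hom_snd (h : IsPullback f' v' v f) (T : Over V) :
    (cmpIso h T).hom.left ≫ pullback.snd T.hom f' ≫ v' = pullback.snd (T.hom ≫ v) f :=
  IsPullback.isoIsPullback_hom_snd _ _ (IsPullback.of_hasPullback (T.hom ≫ v) f)
    (isPullback_paste h T)

lemma cmpIso_naturality (h : IsPullback f' v' v f) {T T₁ : Over V} (t : T ⟶ T₁) :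
    (Over.pullback f).map ((Over.map v).map t) ≫ (cmpIso h T₁).hom =
      (cmpIso h T).hom ≫ (Over.map v').map ((Over.pullback f').map t) := by
  apply Over.OverMorphism.ext
  apply (isPullback_paste h T₁).hom_ext
  · change (pullback.lift _ _ _ ≫ (cmpIso h T₁).hom.left) ≫ pullback.fst T₁.hom f' =
      ((cmpIso h T).hom.left ≫ pullback.lift _ _ _) ≫ pullback.fst T₁.hom f'
    rw [Category.assoc, Category.assoc, cmpIso_hom_fst, pullback.lift_fst]
    refine (pullback.lift_fst _ _ _).trans ?_
    change pullback.fst (T.hom ≫ v) f ≫ t.left = _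
    rw [← cmpIso_hom_fst h T, Category.assoc]
  · change (pullback.lift _ _ _ ≫ (cmpIso h T₁).hom.left) ≫ pullback.snd T₁.hom f' ≫ v' =
      ((cmpIso h T).hom.left ≫ pullback.lift _ _ _) ≫ pullback.snd T₁.hom f' ≫ v'
    rw [Category.assoc, Category.assoc, cmpIso_hom_snd, pullback.lift_snd_assoc]
    refine (pullback.lift_snd _ _ _).trans ?_
    change pullback.snd (T.hom ≫ v) f = _
    rw [← cmpIso_hom_snd h T]

/-- The restriction of a Weil restriction functor along `v : V → S`. -/
noncomputable def restrictIso (h : IsPullback f' v' v f) (X' : Over S') :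
    (Over.map v).op ⋙ WeilRes.functor f X' ≅ WeilRes.functor f' ((Over.pullback v').obj X') :=
  NatIso.ofComponents
    (fun T => (((cmpIso h (unop T)).homFromEquiv (Z := X')).trans
      ((Over.mapPullbackAdj v').homEquiv ((Over.pullback f').obj (unop T)) X')).toIso)
    (by
      intro T T₁ t
      ext z
      change ((Over.mapPullbackAdj v').homEquiv _ X') ((cmpIso h (unop T₁)).inv ≫
        ((Over.pullback f).map ((Over.map v).map t.unop) ≫ z)) =
          (Over.pullback f').map t.unop ≫ ((Over.mapPullbackAdj v').homEquiv _ X')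
            ((cmpIso h (unop T)).inv ≫ z)
      rw [← Adjunction.homEquiv_naturality_left]
      congr 1
      rw [Iso.inv_comp_eq, ← Category.assoc ((cmpIso h (unop T₁)).hom), ← cmpIso_naturality,
        Category.assoc, Iso.hom_inv_id_assoc])

end K933.WRBase
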