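import Mathlib

/-!
# Finite locally free morphisms are Zariski locally spectra of finite free algebras
-/

set_option autoImplicit false

universe u

open CategoryTheory CategoryTheory.Limits AlgebraicGeometry Opposite TensorProduct

namespace K933.WRLocal

theorem exists_free_away (A A' : Type u) [CommRing A] [CommRing A'] [Algebra A A']
    [Module.Finite A A'] [Module.Flat A A'] [Algebra.FinitePresentation A A']
    (p : PrimeSpectrum A) :
    ∃ r, r ∉ p.asIdeal ∧ Module.Free (Localization.Away r) (Localization.Away r ⊗[A] A') := by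
  have : Module.FinitePresentation A A' :=
    Module.FinitePresentation.of_finite_of_finitePresentation A A'
  let S := p.asIdeal.primeCompl
  have h1 : Module.Free (Localization S) (LocalizedModule S A') :=
    Module.free_of_flat_of_isLocalRing (R := Localization.AtPrime p.asIdeal)
      (P := LocalizedModule S A')
  obtain ⟨r, hr, hr', -⟩ := Module.FinitePresentation.exists_free_localizedModule_powers S
    (LocalizedModule.mkLinearMap S A') (Localization.AtPrime p.asIdeal)
  refine ⟨r, hr, ?_⟩
  exact Module.Free.of_equiv (LocalizedModule.equivTensorProduct (.powers r) A')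

/-- A finite locally free morphism is Zariski locally on the base the spectrum of a finite free
extension. -/
theorem exists_chart {S S' : Scheme.{u}} (f : S' ⟶ S) [IsFinite f] [Flat f]
    [LocallyOfFinitePresentation f] (s : S) :
    ∃ (A A' : Type u) (_ : CommRing A) (_ : CommRing A') (_ : Algebra A A') (_ : Module.Finite A A')
      (_ : Module.Free A A') (v : Spec (CommRingCat.of A) ⟶ S)
      (v' : Spec (CommRingCat.of A') ⟶ S'), IsOpenImmersion v ∧ s ∈ Set.range v ∧
      IsPullback (Spec.map (CommRingCat.ofHom (algebraMap A A'))) v' v f := by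
  obtain ⟨_, ⟨U, hU, rfl⟩, hsU, -⟩ := S.isBasis_affineOpens.exists_subset_of_mem_open
    (Set.mem_univ s) isOpen_univ
  let v₀ : Spec Γ(S, U) ⟶ S := hU.fromSpec
  obtain ⟨p, hp⟩ : ∃ p, v₀ p = s := by
    have h1 : s ∈ Set.range v₀ := by
      rw [show Set.range v₀ = (U : Set S) from hU.range_fromSpec]
      exact hsU
    exact h1
  let P := pullback v₀ f
  have : IsAffine P := isAffine_of_isAffineHom (pullback.fst v₀ f)
  obtain ⟨φ, hφ⟩ := Spec.map_surjective (P.isoSpec.inv ≫ pullback.fst v₀ f)
  have hP : IsPullback (Spec.map φ) (P.isoSpec.inv ≫ pullback.snd v₀ f) v₀ f := by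
    rw [hφ]
    exact IsPullback.of_iso (IsPullback.of_hasPullback v₀ f) P.isoSpec (Iso.refl _) (Iso.refl _)
      (Iso.refl _) (by simp) (by simp) (by simp) (by simp)
  have hfin : IsFinite (Spec.map φ) := by rw [hφ]; infer_instance
  have hflat : Flat (Spec.map φ) := by rw [hφ]; infer_instance
  have hfp : LocallyOfFinitePresentation (Spec.map φ) := by rw [hφ]; infer_instance
  algebraize [φ.hom]
  have h1 : Module.Finite Γ(S, U) Γ(P, ⊤) := (IsFinite.SpecMap_iff φ).mp hfin
  have h2 : Module.Flat Γ(S, U) Γ(P, ⊤) := (Flat.SpecMap_iff).mp hflat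
  have h3 : Algebra.FinitePresentation Γ(S, U) Γ(P, ⊤) :=
    (LocallyOfFinitePresentation.SpecMap_iff φ).mp hfp
  obtain ⟨r, hr, hfree⟩ := exists_free_away Γ(S, U) Γ(P, ⊤) p
  refine ⟨Localization.Away r, Localization.Away r ⊗[Γ(S, U)] Γ(P, ⊤), inferInstance, inferInstance,
    inferInstance, inferInstance, hfree,
    Spec.map (CommRingCat.ofHom (algebraMap Γ(S, U) (Localization.Away r))) ≫ v₀,
    Spec.map (CommRingCat.ofHom (Algebra.TensorProduct.includeRight :
      Γ(P, ⊤) →ₐ[Γ(S, U)] Localization.Away r ⊗[Γ(S, U)] Γ(P, ⊤)).toRingHom) ≫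
      P.isoSpec.inv ≫ pullback.snd v₀ f, ?_, ?_, ?_⟩
  · have : IsOpenImmersion
      (Spec.map (CommRingCat.ofHom (algebraMap Γ(S, U) (Localization.Away r)))) :=
      IsOpenImmersion.of_isLocalization r
    infer_instance
  · have h4 : p ∈ Set.range
      (Spec.map (CommRingCat.ofHom (algebraMap Γ(S, U) (Localization.Away r)))) := by
      have h5 := PrimeSpectrum.localization_away_comap_range (Localization.Away r) r
      rw [Set.ext_iff] at h5
      exact (h5 p).mpr hr
    obtain ⟨p', hp'⟩ := h4
    refine ⟨p', ?_⟩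
    rw [Scheme.Hom.comp_apply, hp', hp]
  · have h4 := isPullback_SpecMap_of_isPushout _ _ _ _
      (CommRingCat.isPushout_tensorProduct Γ(S, U) (Localization.Away r) Γ(P, ⊤))
    exact h4.paste_vert hP

end K933.WRLocal
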