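import Groth.Agent.WeilRes.K933.WRAffine
import Groth.Agent.WeilRes.K933.WRAtlas
import Groth.Agent.WeilRes.K933.WRBase
import Groth.Agent.WeilRes.K933.WRLocal
import Groth.Agent.RedSub.H672.ZarGlue
import Mathlib.AlgebraicGeometry.Morphisms.Finite

/-!
# Weil restriction along finite locally free morphisms
-/

set_option autoImplicit false

universe u

open CategoryTheory CategoryTheory.Limits AlgebraicGeometry Opposite TensorProduct

namespace K933.WRFinite

open Groth.Agent.Sga3B.RepDescent K933.WRSheaf K933.WRAffine K933.WRAtlas K933.WRBase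

/-- the Weil restriction functor depends on `X'` only up to isomorphism -/
noncomputable def functorIso {S S' : Scheme.{u}} (f : S' ⟶ S) {X' X'' : Over S'} (e : X' ≅ X'') :
    WeilRes.functor f X' ≅ WeilRes.functor f X'' :=
  Functor.isoWhiskerLeft _ (yoneda.mapIso e)

section affine

variable (A A' : Type u) [CommRing A] [CommRing A'] [Algebra A A'] [Module.Finite A A']
  [Module.Free A A']

theorem exists_representableBy_affine (X' : Over (Spec (CommRingCat.of A'))) [IsAffine X'.left] :
    ∃ R, Nonempty ((WeilRes.functor (fA A A') X').RepresentableBy R) := by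
  obtain ⟨φ, hφ⟩ := Spec.map_surjective (R := CommRingCat.of A') (S := Γ(X'.left, ⊤))
    (X'.left.isoSpec.inv ≫ X'.hom)
  let : Algebra A' Γ(X'.left, ⊤) := φ.hom.toAlgebra
  obtain ⟨R, ⟨r⟩⟩ := exists_representableBy_spec A A' Γ(X'.left, ⊤)
  let e : Over.mk (Spec.map (CommRingCat.ofHom (algebraMap A' Γ(X'.left, ⊤)))) ≅ X' :=
    Over.isoMk X'.left.isoSpec.symm (by
      change X'.left.isoSpec.inv ≫ X'.hom = Spec.map φ
      rw [hφ])
  exact ⟨R, ⟨r.ofIso (functorIso _ e)⟩⟩

/-- Weil restriction along `A → A'` finite free, when the fibres of `T ×_S S' → T` are always carried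
into affine opens. -/
theorem exists_representableBy_of_AF (X' : Over (Spec (CommRingCat.of A')))
    (hAF : ∀ (T : Over (Spec (CommRingCat.of A))) (y : Red.bc (fA A A') T ⟶ X') (t : T.left),
      ∃ U : X'.left.Opens, IsAffineOpen U ∧
        ∀ z : (Red.bc (fA A A') T).left, pullback.fst T.hom (fA A A') z = t → y.left z ∈ U) :
    ∃ R, Nonempty ((WeilRes.functor (fA A A') X').RepresentableBy R) := by
  have hfin : IsFinite (fA A A') := by
    rw [IsFinite.SpecMap_iff]
    exact RingHom.finite_algebraMap.mpr inferInstance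
  have h1 : ∀ U : X'.left.affineOpens, ∃ R, Nonempty
      ((WeilRes.functor (fA A A') (opn X' U.1)).RepresentableBy R) := fun U => by
    have : IsAffine (opn X' U.1).left := U.2
    exact exists_representableBy_affine A A' (opn X' U.1)
  choose R r using h1
  refine exists_representableBy_of_charts (f := fA A A') (X' := X')
    (J := X'.left.affineOpens) (fun U => U.1) R (fun U => (r U).some) ?_
  intro T y t
  obtain ⟨U, hU, h⟩ := hAF T y t
  exact ⟨⟨U, hU⟩, h⟩

end affine

/-- Weil restriction along a finite locally free morphism, when the fibres of `T ×_S S' → T` are always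
carried into affine opens. -/
theorem exists_representableBy_of_finite {S S' : Scheme.{u}} (f : S' ⟶ S) [IsFinite f] [Flat f]
    [LocallyOfFinitePresentation f] (X' : Over S')
    (hAF : ∀ {V V' : Scheme.{u}} (v : V ⟶ S) (v' : V' ⟶ S') (f' : V' ⟶ V), IsPullback f' v' v f →
      IsOpenImmersion v → ∀ (T : Over V)
        (y : Red.bc f' T ⟶ (Over.pullback v').obj X') (t : T.left),
      ∃ U : ((Over.pullback v').obj X').left.Opens, IsAffineOpen U ∧
        ∀ z : (Red.bc f' T).left, pullback.fst T.hom f' z = t → y.left z ∈ U) :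
    ∃ R : Over S, Nonempty ((WeilRes.functor f X').RepresentableBy R) := by
  refine Groth.Agent.RedSub.H672.ZarGlue.exists_representableBy_of_openImmersion
    (isEtSheaf_functor f X') fun s => ?_
  obtain ⟨A, A', _, _, _, _, _, v, v', hv, hs, hpb⟩ := WRLocal.exists_chart f s
  refine ⟨Spec (CommRingCat.of A), v, hv, hs, ?_⟩
  obtain ⟨R, ⟨r⟩⟩ := exists_representableBy_of_AF A A' ((Over.pullback v').obj X')
    (hAF v v' (fA A A') hpb hv)
  exact ⟨R, ⟨r.ofIso (restrictIso hpb X').symm⟩⟩

end K933.WRFinite
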