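import Groth.Agent.WeilRes.K933.WRRigid
import Groth.Agent.Sga3B.BcPts
import Groth.Agent.Sga3B.Pts
import Groth.Agent.Sga3B.BorSpan613
import Groth.Agent.Sga3.H831.TorsReg
import Groth.Agent.Sga3.H821.AffProper
import Groth.Agent.Sga3.H784.Neutral
import Groth.Prelude.Def_WeilRes

/-!
# Specialisation of a Weil restriction to points of the source of the covering
-/

set_option autoImplicit false

universe u

open CategoryTheory Limits MonoidalCategory CartesianMonoidalCategory MonObj AlgebraicGeometry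

namespace K933.WRTorus

open Groth.Agent.Sga3B.BcPts

section sect

variable {S S' V : Scheme.{u}} {f : S' ⟶ S} {v : V ⟶ S} {w : V ⟶ S'} (hw : w ≫ f = v)

/-- The tautological section of `T ×_S S' → T` for a scheme `T` over `V → S'`. -/
noncomputable def sect (T : Over V) :
    (Over.map w).obj T ⟶ Red.bc f ((Over.map v).obj T) :=
  Over.homMk (pullback.lift (𝟙 T.left) (T.hom ≫ w) (by
    change 𝟙 T.left ≫ T.hom ≫ v = (T.hom ≫ w) ≫ f
    rw [Category.id_comp, Category.assoc, hw])) (pullback.lift_snd _ _ _)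

lemma sect_left_fst (T : Over V) :
    (sect hw T).left ≫ pullback.fst ((Over.map v).obj T).hom f = 𝟙 T.left :=
  pullback.lift_fst _ _ _

lemma sect_left_snd (T : Over V) :
    (sect hw T).left ≫ pullback.snd ((Over.map v).obj T).hom f = T.hom ≫ w :=
  pullback.lift_snd _ _ _

lemma sect_naturality {T₁ T : Over V} (g : T₁ ⟶ T) :
    (Over.map w).map g ≫ sect hw T =
      sect hw T₁ ≫ (Over.pullback f).map ((Over.map v).map g) := by
  apply Over.OverMorphism.ext
  apply pullback.hom_ext
  · rw [Over.comp_left, Over.comp_left, Category.assoc, Category.assoc]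
    refine (congrArg (fun k => ((Over.map w).map g).left ≫ k) (sect_left_fst hw T)).trans ?_
    have h1 : ((Over.pullback f).map ((Over.map v).map g)).left ≫
      pullback.fst ((Over.map v).obj T).hom f =
        pullback.fst ((Over.map v).obj T₁).hom f ≫ g.left := pullback.lift_fst _ _ _
    refine Eq.trans ?_ (congrArg (fun k => (sect hw T₁).left ≫ k) h1).symm
    change g.left ≫ 𝟙 T.left = (sect hw T₁).left ≫ pullback.fst ((Over.map v).obj T₁).hom f ≫ g.left
    rw [← Category.assoc, sect_left_fst, Category.comp_id]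
    exact (Category.id_comp _).symm
  · rw [Over.comp_left, Over.comp_left, Category.assoc, Category.assoc]
    refine (congrArg (fun k => ((Over.map w).map g).left ≫ k) (sect_left_snd hw T)).trans ?_
    have h1 : ((Over.pullback f).map ((Over.map v).map g)).left ≫
      pullback.snd ((Over.map v).obj T).hom f =
        pullback.snd ((Over.map v).obj T₁).hom f := pullback.lift_snd _ _ _
    refine Eq.trans ?_ (congrArg (fun k => (sect hw T₁).left ≫ k) h1).symm
    change g.left ≫ T.hom ≫ w = (sect hw T₁).left ≫ pullback.snd ((Over.map v).obj T₁).hom f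
    rw [sect_left_snd, ← Category.assoc, Over.w g]

variable {E : Over S'} {R : Over S} (q : Red.bc f R ⟶ E)

/-- Points of the Weil restriction give points of the fibre at `w`. -/
noncomputable def spec (T : Over V) (g : T ⟶ Red.bc v R) : T ⟶ Red.bc w E :=
  bcEquiv w T E (sect hw T ≫ WeilRes.restr f q ((Over.map v).obj T) ((bcEquiv v T R).symm g))

lemma comp_spec {T₁ T : Over V} (h : T₁ ⟶ T) (g : T ⟶ Red.bc v R) :
    h ≫ spec hw q T g = spec hw q T₁ (h ≫ g) := by
  rw [spec, spec, comp_bcEquiv_symm, ← comp_bcEquiv, ← Category.assoc, sect_naturality,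
    WeilRes.restr_comp, Category.assoc]

lemma spec_mul [GrpObj E] [GrpObj R] [IsMonHom q] {T : Over V} (g h : T ⟶ Red.bc v R) :
    spec hw q T (g * h) = spec hw q T g * spec hw q T h := by
  have h1 : (bcEquiv v T R).symm (g * h) = (bcEquiv v T R).symm g * (bcEquiv v T R).symm h :=
    map_mul (bcMulEquiv v T R).symm g h
  rw [spec, h1, WeilRes.restr_mul, MonObj.comp_mul, bcEquiv_mul]
  rfl

theorem isMonHom_spec [GrpObj E] [GrpObj R] [IsMonHom q] {G : Over V} [GrpObj G]
    (φ : G ⟶ Red.bc v R) [IsMonHom φ] : IsMonHom (spec hw q G φ) := by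
  refine Groth.Agent.Sga3B.Pts.isMonHom_of_points _ fun T x y => ?_
  rw [comp_spec, comp_spec, comp_spec, ← spec_mul, MonObj.mul_comp]

end sect

/-- Points of finite schemes over algebraically closed fields. -/
theorem exists_section {Ω : Type u} [Field Ω] [IsAlgClosed Ω] {X : Scheme.{u}}
    (p : X ⟶ Spec (CommRingCat.of Ω)) [IsFinite p] (t : X) :
    ∃ w : Spec (CommRingCat.of Ω) ⟶ X, w ≫ p = 𝟙 _ ∧ t ∈ Set.range w := by
  have hdisc : DiscreteTopology X := by
    have h1 : ∀ y : Spec (CommRingCat.of Ω), _root_.IsDiscrete (p ⁻¹' {y}) :=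
      p.isDiscrete_preimage_singleton
    have h2 : ∀ y : Spec (CommRingCat.of Ω), p ⁻¹' {y} = Set.univ := fun y =>
      Set.eq_univ_of_forall fun x => Subsingleton.elim (α := Spec (CommRingCat.of Ω)) _ _
    simp only [h2] at h1
    exact isDiscrete_univ_iff.1 (h1 (IsLocalRing.closedPoint Ω))
  have ht : IsClosed ({t} : Set X) := isClosed_discrete _
  let x := (pointEquivClosedPoint p).symm ⟨t, ht⟩
  have hx := (pointEquivClosedPoint p).apply_symm_apply ⟨t, ht⟩
  exact ⟨x.1, x.2, ⟨_, congrArg Subtype.val hx⟩⟩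

/-- A prime number which does not vanish in a given field. -/
lemma exists_prime (Ω : Type u) [Field Ω] : ∃ l : ℕ, l.Prime ∧ (l : Ω) ≠ 0 := by
  by_cases h : (2 : Ω) = 0
  · refine ⟨3, Nat.prime_three, fun h3 => ?_⟩
    have h4 : (1 : Ω) = 0 := by
      have : (3 : Ω) = 0 := by exact_mod_cast h3
      calc (1 : Ω) = 3 - 2 := by norm_num
        _ = 0 := by rw [this, h, sub_zero]
    exact one_ne_zero h4
  · exact ⟨2, Nat.prime_two, by exact_mod_cast h⟩

/-- Homomorphisms from the multiplicative group to the Weil restriction of a proper group scheme along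
a finite extension of a field are trivial. -/
theorem hom_eq_one (κ B : Type u) [Field κ] [CommRing B] [Algebra κ B] [Module.Finite κ B]
    (E : Over (Spec (CommRingCat.of B))) [GrpObj E] [IsProper E.hom] [LocallyOfFinitePresentation E.hom]
    (R : Over (Spec (CommRingCat.of κ))) [GrpObj R]
    (q : Red.bc (Spec.map (CommRingCat.ofHom (algebraMap κ B))) R ⟶ E) [IsMonHom q]
    (hR : WeilRes.IsWeilRes (Spec.map (CommRingCat.ofHom (algebraMap κ B))) E R q)
    (Ω : Type u) [Field Ω] [IsAlgClosed Ω] [Algebra κ Ω]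
    (φ : Red.Gm (Spec (CommRingCat.of Ω)) ⟶
      Red.bc (Spec.map (CommRingCat.ofHom (algebraMap κ Ω))) R) [IsMonHom φ] :
    φ = 1 := by
  let f := Spec.map (CommRingCat.ofHom (algebraMap κ B))
  let v := Spec.map (CommRingCat.ofHom (algebraMap κ Ω))
  have hffin : IsFinite f := by
    rw [IsFinite.SpecMap_iff]
    exact RingHom.finite_algebraMap.mpr inferInstance
  have hT := Groth.Agent.Sga3B.BorSpan613.isTorus_Gm (Spec (CommRingCat.of Ω))
  have hGa' : IsAffineHom (Red.Gm (Spec (CommRingCat.of Ω))).hom :=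
    Groth.Agent.Sga3B.TorusAlgClosed.isAffineHom_of_isTorus hT
  have hGa : IsAffine (Red.Gm (Spec (CommRingCat.of Ω))).left :=
    isAffine_of_isAffineHom (Red.Gm (Spec (CommRingCat.of Ω))).hom
  have hGs : Smooth (Red.Gm (Spec (CommRingCat.of Ω))).hom :=
    Groth.Agent.Sga3B.TorusAlgClosed.smooth_of_isTorus hT
  have hGc : ConnectedSpace (Red.Gm (Spec (CommRingCat.of Ω))).left :=
    Groth.Agent.Sga3.H784.Neutral.connectedSpace_of_isTorus hT
  obtain ⟨l, hl, hl0⟩ := exists_prime Ω
  refine Groth.Agent.Sga3.H831.TorsReg.hom_ext_lTorsion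
    (Groth.Agent.Sga3B.BorSpan613.isTorus_Gm _) hl hl0 φ 1 fun m x hx => ?_
  rw [MonObj.comp_one]
  -- the specialisations are trivial
  have hspec : ∀ (w : Spec (CommRingCat.of Ω) ⟶ Spec (CommRingCat.of B)) (hw : w ≫ f = v),
      spec hw q _ (x ≫ φ) = 1 := by
    intro w hw
    rw [← comp_spec]
    have h1 : IsMonHom (spec hw q _ φ) := isMonHom_spec hw q φ
    have h2 : IsProper (Red.bc w E).hom := by
      change IsProper (pullback.snd E.hom w)
      infer_instance
    have h3 : spec hw q _ φ = 1 :=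
      Groth.Agent.Sga3.H821.AffProper.hom_eq_one Ω (Red.Gm (Spec (CommRingCat.of Ω)))
        (Red.bc w E) (spec hw q _ φ)
    rw [h3, MonObj.comp_one]
  let T : Over (Spec (CommRingCat.of κ)) := (Over.map v).obj (𝟙_ (Over (Spec (CommRingCat.of Ω))))
  let x' : T ⟶ R := (bcMulEquiv v _ R).symm (x ≫ φ)
  let y : Red.bc f T ⟶ E := WeilRes.restrMonoidHom f q T x'
  have hx1 : (x ≫ φ) ^ (l ^ m) = 1 := by
    have h1 : (x ^ (l ^ m)) ≫ φ = (x ≫ φ) ^ (l ^ m) := MonObj.pow_comp x (l ^ m) φ
    rw [← h1, hx, MonObj.one_comp]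
  have hx'1 : x' ^ (l ^ m) = 1 := by
    change ((bcMulEquiv v _ R).symm (x ≫ φ)) ^ (l ^ m) = 1
    rw [← map_pow, hx1, map_one]
  have hy1 : y ^ (l ^ m) = 1 := by
    change (WeilRes.restrMonoidHom f q T x') ^ (l ^ m) = 1
    rw [← map_pow, hx'1, map_one]
  have hlκ : (l : κ) ≠ 0 := by
    intro h
    apply hl0
    have := congrArg (algebraMap κ Ω) h
    rwa [map_natCast, map_zero] at this
  have hm : ∀ s : Spec (CommRingCat.of B),
      ((l ^ m : ℕ) : (Spec (CommRingCat.of B)).residueField s) ≠ 0 := by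
    intro s
    let ρ : B →+* (Spec (CommRingCat.of B)).residueField s :=
      (Spec.preimage ((Spec (CommRingCat.of B)).fromSpecResidueField s)).hom
    have h1 : IsUnit ((l ^ m : ℕ) : κ) := by
      rw [Nat.cast_pow]
      exact (isUnit_iff_ne_zero.mpr hlκ).pow m
    have h2 := h1.map (ρ.comp (algebraMap κ B))
    rw [map_natCast] at h2
    exact h2.ne_zero
  have hy : y = 1 := by
    refine WRRigid.eq_one_of_pow E (l ^ m) hm y hy1 fun t => ?_
    have h1 : IsFinite (pullback.fst T.hom f) := inferInstance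
    obtain ⟨w₁, hw₁, ht⟩ := exists_section (Ω := Ω) (pullback.fst T.hom f) t
    have hwB : (w₁ ≫ pullback.snd T.hom f) ≫ f = v := by
      rw [Category.assoc, ← pullback.condition, ← Category.assoc, hw₁]
      change 𝟙 _ ≫ 𝟙 _ ≫ v = v
      rw [Category.id_comp, Category.id_comp]
    refine ⟨_, sect hwB (𝟙_ _), ?_, ?_⟩
    · have h2 : (sect hwB (𝟙_ _)).left = w₁ := by
        apply pullback.hom_ext
        · exact (sect_left_fst hwB _).trans hw₁.symm
        · refine (sect_left_snd hwB _).trans ?_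
          change 𝟙 _ ≫ (w₁ ≫ pullback.snd T.hom f) = _
          rw [Category.id_comp]
      rw [h2]
      exact ht
    · apply (bcEquiv (w₁ ≫ pullback.snd T.hom f) _ E).injective
      rw [bcEquiv_one]
      exact hspec _ hwB
  have hx' : x' = 1 := by
    apply (hR T).injective
    rw [WeilRes.restr_one]
    exact hy
  have h5 : (bcMulEquiv v _ R) x' = 1 := by rw [hx', map_one]
  have h6 : (bcMulEquiv v _ R) x' = x ≫ φ := (bcMulEquiv v _ R).apply_symm_apply _
  exact h6.symm.trans h5

end K933.WRTorus
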