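import Groth.Agent.Sga3B.RepDescent6
import Groth.Prelude.Def_WeilRes

/-!
# The Weil restriction functor is an étale sheaf
-/

set_option autoImplicit false

universe u

open CategoryTheory CategoryTheory.Limits AlgebraicGeometry Opposite

namespace K933.WRSheaf

open Groth.Agent.Sga3B.RepDescent

variable {S S' : Scheme.{u}} (f : S' ⟶ S)

/-- the base change of `g : T₁ → T` is a base change of `g.left`. -/
theorem isPullback_bc_map {T₁ T : Over S} (g : T₁ ⟶ T) :
    IsPullback (((Over.pullback f).map g).left) (pullback.fst T₁.hom f) (pullback.fst T.hom f)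
      g.left := by
  have h1 : IsPullback (pullback.fst T.hom f) (pullback.snd T.hom f) T.hom f :=
    IsPullback.of_hasPullback _ _
  have h2 : IsPullback (pullback.fst T₁.hom f)
      (((Over.pullback f).map g).left ≫ pullback.snd T.hom f) (g.left ≫ T.hom) f := by
    have h3 : ((Over.pullback f).map g).left ≫ pullback.snd T.hom f = pullback.snd T₁.hom f :=
      pullback.lift_snd _ _ _
    rw [h3, Over.w g]
    exact IsPullback.of_hasPullback _ _
  refine (IsPullback.of_bot h2 ?_ h1).flip
  exact (pullback.lift_fst _ _ _).symm

theorem isEtSheaf_functor (X' : Over S') : IsEtSheaf (WeilRes.functor f X') := by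
  intro T J T' g hg hcov x hx
  have hy := isEtSheaf_yoneda X' (T := Red.bc f T) (fun i => Red.bc f (T' i))
    (fun i => (Over.pullback f).map (g i)) ?_ ?_ x ?_
  · exact hy
  · intro i
    have := hg i
    exact MorphismProperty.of_isPullback (isPullback_bc_map f (g i)).flip (hg i)
  · intro t
    obtain ⟨i, t', ht'⟩ := hcov (pullback.fst T.hom f t)
    obtain ⟨z, hz1, hz2⟩ := Scheme.exists_preimage_of_isPullback (isPullback_bc_map f (g i)).flip
      t' t ht'
    exact ⟨i, z, hz2⟩
  · intro i j R a b hab
    let adj := Over.mapPullbackAdj f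
    let a' := (adj.homEquiv R (T' i)).symm a
    let b' := (adj.homEquiv R (T' j)).symm b
    have h1 : a' ≫ g i = b' ≫ g j := by
      rw [← Adjunction.homEquiv_naturality_right_symm, ← Adjunction.homEquiv_naturality_right_symm]
      exact congrArg _ hab
    have h2 : (Over.pullback f).map a' ≫ x i = (Over.pullback f).map b' ≫ x j :=
      hx i j _ a' b' h1
    have ha : a = adj.unit.app R ≫ (Over.pullback f).map a' :=
      ((adj.homEquiv R (T' i)).apply_symm_apply a).symm.trans (adj.homEquiv_unit _ _ _)
    have hb : b = adj.unit.app R ≫ (Over.pullback f).map b' :=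
      ((adj.homEquiv R (T' j)).apply_symm_apply b).symm.trans (adj.homEquiv_unit _ _ _)
    change a ≫ x i = b ≫ x j
    rw [ha, hb, Category.assoc, Category.assoc, h2]

end K933.WRSheaf
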