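import Groth.Agent.WeilRes.K933.WRAlg
import Groth.Agent.WeilRes.K933.WRSheaf

/-!
# Weil restriction of affine schemes along finite free extensions of rings
-/

set_option autoImplicit false

universe u

open CategoryTheory CategoryTheory.Limits AlgebraicGeometry Opposite TensorProduct

namespace K933.WRAffine

open Groth.Agent.Sga3B.RepDescent K933.WRSheaf

section general

variable {S : Scheme.{u}} {F : (Over S)ᵒᵖ ⥤ Type u}

/-- The object of an affine open cover. -/
noncomputable abbrev cov (T : Over S) (i : T.left.affineCover.I₀) : Over S :=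
  Over.mk (T.left.affineCover.f i ≫ T.hom)

/-- The map of an affine open cover. -/
noncomputable abbrev covMap (T : Over S) (i : T.left.affineCover.I₀) : cov T i ⟶ T :=
  Over.homMk (T.left.affineCover.f i) rfl

theorem injective_of_spec (R : Over S) (ξ : F.obj (op R))
    (h : ∀ (B : CommRingCat.{u}) (t : Spec B ⟶ S),
      Function.Injective (fun g : Over.mk t ⟶ R => F.map g.op ξ)) (T : Over S) :
    Function.Injective (fun g : T ⟶ R => F.map g.op ξ) := by
  intro g₁ g₂ hg
  apply Over.OverMorphism.ext
  refine T.left.affineCover.hom_ext _ _ fun i => ?_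
  have h1 : covMap T i ≫ g₁ = covMap T i ≫ g₂ := by
    apply h
    change F.map (covMap T i ≫ g₁).op ξ = F.map (covMap T i ≫ g₂).op ξ
    rw [op_comp, op_comp, Functor.map_comp_apply, Functor.map_comp_apply]
    exact congrArg _ hg
  exact congrArg (fun k => k.left) h1

/-- A universal element for test schemes `Spec B` of an étale sheaf is universal. -/
theorem bijective_of_spec (hF : IsEtSheaf F) (R : Over S) (ξ : F.obj (op R))
    (h : ∀ (B : CommRingCat.{u}) (t : Spec B ⟶ S),
      Function.Bijective (fun g : Over.mk t ⟶ R => F.map g.op ξ)) (T : Over S) :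
    Function.Bijective (fun g : T ⟶ R => F.map g.op ξ) := by
  have hinj := injective_of_spec R ξ (fun B t => (h B t).1)
  refine ⟨hinj T, fun x => ?_⟩
  have hcov : ∀ t : T.left, ∃ (i : T.left.affineCover.I₀) (t' : (cov T i).left),
      (covMap T i).left t' = t := fun t => by
    obtain ⟨y, hy⟩ := T.left.affineCover.covers t
    exact ⟨T.left.affineCover.idx t, y, hy⟩
  have het : ∀ i, Etale (covMap T i).left := fun i => by
    change Etale (T.left.affineCover.f i)
    infer_instance
  choose g hg using fun i => (h _ (T.left.affineCover.f i ≫ T.hom)).2 (F.map (covMap T i).op x)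
  obtain ⟨y, hy, -⟩ := isEtSheaf_yoneda R (T := T) (cov T) (covMap T) het hcov g (by
    intro i j Q a b hab
    apply hinj
    change F.map (a ≫ g i).op ξ = F.map (b ≫ g j).op ξ
    rw [op_comp, op_comp, Functor.map_comp_apply, Functor.map_comp_apply]
    have hi : F.map (g i).op ξ = F.map (covMap T i).op x := hg i
    have hj : F.map (g j).op ξ = F.map (covMap T j).op x := hg j
    refine (congrArg (F.map a.op) hi).trans (Eq.trans ?_ (congrArg (F.map b.op) hj).symm)
    rw [← Functor.map_comp_apply, ← Functor.map_comp_apply, ← op_comp, ← op_comp, hab])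
  refine ⟨y, ?_⟩
  obtain ⟨z, hz, hz'⟩ := hF (T := T) (cov T) (covMap T) het hcov
    (fun i => F.map (covMap T i).op x) (by
    intro i j Q a b hab
    rw [← Functor.map_comp_apply, ← Functor.map_comp_apply, ← op_comp, ← op_comp, hab])
  have h1 : x = z := hz' x fun _ => rfl
  rw [h1]
  refine hz' _ fun i => ?_
  have h2 : covMap T i ≫ y = g i := hy i
  change F.map (covMap T i).op (F.map y.op ξ) = _
  rw [← Functor.map_comp_apply, ← op_comp, h2]
  exact hg i

/-- Representability from a universal element for test schemes `Spec B`. -/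
theorem representableBy_of_spec (hF : IsEtSheaf F) (R : Over S) (ξ : F.obj (op R))
    (h : ∀ (B : CommRingCat.{u}) (t : Spec B ⟶ S),
      Function.Bijective (fun g : Over.mk t ⟶ R => F.map g.op ξ)) :
    Nonempty (F.RepresentableBy R) :=
  ⟨{ homEquiv := fun {T} => Equiv.ofBijective _ (bijective_of_spec hF R ξ h T)
     homEquiv_comp := fun {T T'} a b => by
      change F.map (a ≫ b).op ξ = F.map a.op (F.map b.op ξ)
      rw [op_comp, Functor.map_comp_apply] }⟩

end general

section affine

variable (A A' : Type u) [CommRing A] [CommRing A'] [Algebra A A']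

/-- `Spec A' → Spec A` -/
noncomputable abbrev fA : Spec (CommRingCat.of A') ⟶ Spec (CommRingCat.of A) :=
  Spec.map (CommRingCat.ofHom (algebraMap A A'))

variable (B : Type u) [CommRing B] [Algebra A B]

/-- `Spec B` over `Spec A`. -/
noncomputable abbrev spO : Over (Spec (CommRingCat.of A)) :=
  Over.mk (Spec.map (CommRingCat.ofHom (algebraMap A B)))

/-- `Spec (B ⊗ A')` is the base change of `Spec B`. -/
noncomputable abbrev io : Spec (CommRingCat.of (B ⊗[A] A')) ≅ (Red.bc (fA A A') (spO A B)).left :=
  (pullbackSpecIso A B A').symm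

variable {B} in
theorem io_naturality {P : Type u} [CommRing P] [Algebra A P] (φ : P →ₐ[A] B)
    (m : spO A B ⟶ spO A P) (hm : m.left = Spec.map (CommRingCat.ofHom φ.toRingHom)) :
    (io A A' B).hom ≫ ((Over.pullback (fA A A')).map m).left =
      Spec.map (CommRingCat.ofHom (Algebra.TensorProduct.map φ (AlgHom.id A A')).toRingHom) ≫
        (io A A' P).hom := by
  apply pullback.hom_ext
  · have h1 : ((Over.pullback (fA A A')).map m).left ≫ pullback.fst (spO A P).hom (fA A A') =
      pullback.fst (spO A B).hom (fA A A') ≫ m.left := pullback.lift_fst _ _ _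
    rw [Category.assoc, Category.assoc]
    refine (congrArg (fun k => (io A A' B).hom ≫ k) h1).trans ?_
    have h2 : (io A A' B).hom ≫ pullback.fst (spO A B).hom (fA A A') =
      Spec.map (CommRingCat.ofHom Algebra.TensorProduct.includeLeftRingHom) :=
      pullbackSpecIso_inv_fst A B A'
    have h3 : (io A A' P).hom ≫ pullback.fst (spO A P).hom (fA A A') =
      Spec.map (CommRingCat.ofHom Algebra.TensorProduct.includeLeftRingHom) :=
      pullbackSpecIso_inv_fst A P A'
    change (io A A' B).hom ≫ pullback.fst (spO A B).hom (fA A A') ≫ m.left = _ ≫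
      (io A A' P).hom ≫ pullback.fst (spO A P).hom (fA A A')
    rw [reassoc_of% h2, h3, hm, ← Spec.map_comp, ← Spec.map_comp]
    congr 1
  · have h1 : ((Over.pullback (fA A A')).map m).left ≫ pullback.snd (spO A P).hom (fA A A') =
      pullback.snd (spO A B).hom (fA A A') := pullback.lift_snd _ _ _
    rw [Category.assoc, Category.assoc]
    refine (congrArg (fun k => (io A A' B).hom ≫ k) h1).trans ?_
    have h2 : (io A A' B).hom ≫ pullback.snd (spO A B).hom (fA A A') =
      Spec.map (CommRingCat.ofHom
        (Algebra.TensorProduct.includeRight : A' →ₐ[A] B ⊗[A] A').toRingHom) :=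
      pullbackSpecIso_inv_snd A B A'
    have h3 : (io A A' P).hom ≫ pullback.snd (spO A P).hom (fA A A') =
      Spec.map (CommRingCat.ofHom
        (Algebra.TensorProduct.includeRight : A' →ₐ[A] P ⊗[A] A').toRingHom) :=
      pullbackSpecIso_inv_snd A P A'
    change (io A A' B).hom ≫ pullback.snd (spO A B).hom (fA A A') = _ ≫
      (io A A' P).hom ≫ pullback.snd (spO A P).hom (fA A A')
    rw [h2, h3, ← Spec.map_comp]
    congr 1
    ext x
    simp

variable {A A' B}

/-- morphisms of spectra over `Spec A` come from algebra homomorphisms -/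
theorem exists_algHom {P : Type u} [CommRing P] [Algebra A P] (m : spO A B ⟶ spO A P) :
    ∃ φ : P →ₐ[A] B, m.left = Spec.map (CommRingCat.ofHom φ.toRingHom) := by
  obtain ⟨φ, hφ⟩ := Spec.map_surjective (R := CommRingCat.of P) (S := CommRingCat.of B) m.left
  have h1 : m.left ≫ Spec.map (CommRingCat.ofHom (algebraMap A P)) =
    Spec.map (CommRingCat.ofHom (algebraMap A B)) := Over.w m
  have h2 : CommRingCat.ofHom (algebraMap A P) ≫ φ = CommRingCat.ofHom (algebraMap A B) := by
    apply Spec.map_injective
    rw [Spec.map_comp, hφ, h1]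
  refine ⟨{ φ.hom with commutes' := fun a => ?_ }, hφ.symm⟩
  exact DFunLike.congr_fun (congrArg CommRingCat.Hom.hom h2) a

variable (A A')

/-- The Weil restriction of an affine scheme along a finite free extension of rings is
representable. -/
theorem exists_representableBy_spec [Module.Finite A A'] [Module.Free A A'] (E : Type u)
    [CommRing E] [Algebra A' E] :
    ∃ R : Over (Spec (CommRingCat.of A)), Nonempty ((WeilRes.functor (fA A A')
      (Over.mk (Spec.map (CommRingCat.ofHom (algebraMap A' E))))).RepresentableBy R) := by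
  obtain ⟨P, _, _, π, hπ, huniv⟩ := WRAlg.exists_weil A A' E
  let X' : Over (Spec (CommRingCat.of A')) :=
    Over.mk (Spec.map (CommRingCat.ofHom (algebraMap A' E)))
  let q : Red.bc (fA A A') (spO A P) ⟶ X' :=
    Over.homMk ((io A A' P).inv ≫ Spec.map (CommRingCat.ofHom π)) (by
      change ((io A A' P).inv ≫ Spec.map (CommRingCat.ofHom π)) ≫
        Spec.map (CommRingCat.ofHom (algebraMap A' E)) = pullback.snd (spO A P).hom (fA A A')
      rw [Category.assoc, ← Spec.map_comp, Iso.inv_comp_eq]
      refine Eq.trans ?_ (pullbackSpecIso_inv_snd A P A').symm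
      congr 1
      ext a
      exact hπ a)
  have hq : (io A A' P).hom ≫ q.left = Spec.map (CommRingCat.ofHom π) := by
    change (io A A' P).hom ≫ (io A A' P).inv ≫ Spec.map (CommRingCat.ofHom π) = _
    rw [Iso.hom_inv_id_assoc]
  refine ⟨spO A P, representableBy_of_spec (isEtSheaf_functor (fA A A') X') (spO A P) q ?_⟩
  intro B t
  obtain ⟨t', rfl⟩ := Spec.map_surjective (R := CommRingCat.of A) (S := B) t
  let : Algebra A B := t'.hom.toAlgebra
  have key : ∀ (φ : P →ₐ[A] B) (m : spO A B ⟶ spO A P),
      m.left = Spec.map (CommRingCat.ofHom φ.toRingHom) →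
      (io A A' B).hom ≫ ((Over.pullback (fA A A')).map m ≫ q).left =
        Spec.map (CommRingCat.ofHom
          ((Algebra.TensorProduct.map φ (AlgHom.id A A')).toRingHom.comp π)) := by
    intro φ m hm
    rw [Over.comp_left, ← Category.assoc, io_naturality A A' φ m hm, Category.assoc, hq,
      ← Spec.map_comp]
    rfl
  change Function.Bijective (fun m : spO A B ⟶ spO A P => (Over.pullback (fA A A')).map m ≫ q)
  constructor
  · intro m₁ m₂ h
    obtain ⟨φ₁, h₁⟩ := exists_algHom m₁
    obtain ⟨φ₂, h₂⟩ := exists_algHom m₂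
    have e₁ := key φ₁ m₁ h₁
    have e₂ := key φ₂ m₂ h₂
    have h3 : (Over.pullback (fA A A')).map m₁ ≫ q = (Over.pullback (fA A A')).map m₂ ≫ q := h
    rw [h3, e₂] at e₁
    have h4 := congrArg CommRingCat.Hom.hom (Spec.map_injective e₁)
    have h5 : ∀ x, Algebra.TensorProduct.map φ₂ (AlgHom.id A A') (π x) =
        Algebra.TensorProduct.map φ₁ (AlgHom.id A A') (π x) := fun x => DFunLike.congr_fun h4 x
    have h6 : φ₁ = φ₂ := by
      refine (huniv B ((Algebra.TensorProduct.map φ₁ (AlgHom.id A A')).toRingHom.comp π)
        (fun a => ?_)).unique (fun x => rfl) (fun x => h5 x)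
      change Algebra.TensorProduct.map φ₁ (AlgHom.id A A') (π (algebraMap A' E a)) = _
      rw [hπ]
      simp
    apply Over.OverMorphism.ext
    rw [h₁, h₂, h6]
  · intro y
    obtain ⟨e, he⟩ := Spec.map_surjective (R := CommRingCat.of E)
      (S := CommRingCat.of (B ⊗[A] A')) ((io A A' B).hom ≫ Over.Hom.left y)
    have hw : Over.Hom.left y ≫ Spec.map (CommRingCat.ofHom (algebraMap A' E)) =
      pullback.snd (spO A B).hom (fA A A') := Over.w y
    have hsnd : (io A A' B).hom ≫ pullback.snd (spO A B).hom (fA A A') =
      Spec.map (CommRingCat.ofHom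
        (Algebra.TensorProduct.includeRight : A' →ₐ[A] B ⊗[A] A').toRingHom) :=
      pullbackSpecIso_inv_snd A B A'
    have h1 : CommRingCat.ofHom (algebraMap A' E) ≫ e = CommRingCat.ofHom
        (Algebra.TensorProduct.includeRight : A' →ₐ[A] B ⊗[A] A').toRingHom := by
      apply Spec.map_injective
      rw [Spec.map_comp, he, Category.assoc, hw, hsnd]
    obtain ⟨φ, hφ, -⟩ := huniv B e.hom
      (fun a => DFunLike.congr_fun (congrArg CommRingCat.Hom.hom h1) a)
    let m : spO A B ⟶ spO A P := Over.homMk (Spec.map (CommRingCat.ofHom φ.toRingHom)) (by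
      change Spec.map (CommRingCat.ofHom φ.toRingHom) ≫
        Spec.map (CommRingCat.ofHom (algebraMap A P)) =
          Spec.map (CommRingCat.ofHom (algebraMap A B))
      rw [← Spec.map_comp]
      congr 1
      ext a
      exact φ.commutes a)
    refine ⟨m, ?_⟩
    apply Over.OverMorphism.ext
    rw [← cancel_epi (io A A' B).hom]
    refine (key φ m rfl).trans (Eq.trans ?_ he)
    congr 1
    ext x
    exact hφ x

end affine

end K933.WRAffine
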