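import Groth.Agent.Sga3B.Hens.WeilRes

/-!
# Weil restriction of an arbitrary algebra along a finite free algebra
-/

set_option autoImplicit false

universe u

open TensorProduct

namespace K933.WRAlg

open Groth.Agent.Sga3B.Hens.WeilRes

theorem exists_ringHom_lift {P Q C : Type*} [CommRing P] [CommRing Q] [CommRing C]
    (f : P →+* Q) (hf : Function.Surjective f)
    (g : P →+* C) (h : ∀ x, f x = 0 → g x = 0) : ∃ l : Q →+* C, ∀ x, l (f x) = g x :=
  ⟨RingHom.liftOfSurjective f hf ⟨g, fun x hx => h x hx⟩, fun x =>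
    RingHom.liftOfRightInverse_comp_apply f _ (Function.surjInv_eq hf) ⟨g, fun x hx => h x hx⟩ x⟩

/-- Weil restriction of an arbitrary `A'`-algebra `E` along a finite free algebra `A → A'`. -/
theorem exists_weil (A A' : Type u) [CommRing A] [CommRing A'] [Algebra A A'] [Module.Finite A A']
    [Module.Free A A'] (E : Type u) [CommRing E] [Algebra A' E] :
    ∃ (P : Type u) (_ : CommRing P) (_ : Algebra A P) (π : E →+* P ⊗[A] A'),
      (∀ a : A', π (algebraMap A' E a) = 1 ⊗ₜ[A] a) ∧
      ∀ (B : Type u) [CommRing B] [Algebra A B] (e : E →+* B ⊗[A] A'),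
        (∀ a : A', e (algebraMap A' E a) = 1 ⊗ₜ[A] a) →
        ∃! φ : P →ₐ[A] B, ∀ x, Algebra.TensorProduct.map φ (AlgHom.id A A') (π x) = e x := by
  classical
  let κ := Module.Free.ChooseBasisIndex A A'
  let bb : Module.Basis κ A A' := Module.Free.chooseBasis A A'
  have : Fintype κ := Module.Free.ChooseBasisIndex.fintype A A'
  let f : MvPolynomial E A' →ₐ[A'] E := MvPolynomial.aeval id
  have hf : Function.Surjective f := fun x => ⟨MvPolynomial.X x, by simp [f]⟩
  let R := MvPolynomial (E × κ) A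
  let ψ : MvPolynomial E A' →+* R ⊗[A] A' :=
    MvPolynomial.eval₂Hom (Algebra.TensorProduct.includeRight : A' →ₐ[A] R ⊗[A] A').toRingHom
      (fun x => ∑ k, (MvPolynomial.X (x, k) : R) ⊗ₜ[A] bb k)
  have hψC : ∀ a : A', ψ (MvPolynomial.C a) = 1 ⊗ₜ[A] a := fun a => by simp [ψ]
  have hψX : ∀ x : E, ψ (MvPolynomial.X x) = ∑ k, (MvPolynomial.X (x, k) : R) ⊗ₜ[A] bb k :=
    fun x => by simp [ψ]
  have hcoord : ∀ (B : Type u) [CommRing B] [Algebra A B] (φ : R →ₐ[A] B) (x : E) (k : κ),
      (bas bb B).repr (Algebra.TensorProduct.map φ (AlgHom.id A A') (ψ (MvPolynomial.X x))) k =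
        φ (MvPolynomial.X (x, k)) := by
    intro B _ _ φ x k
    rw [repr_map]
    congr 1
    rw [hψX]
    have h1 : ∀ k' : κ, (MvPolynomial.X (x, k') : R) ⊗ₜ[A] bb k' =
        (MvPolynomial.X (x, k') : R) • (bas bb R) k' := by
      intro k'
      rw [Algebra.TensorProduct.basis_apply, TensorProduct.smul_tmul', smul_eq_mul, mul_one]
    simp only [h1]
    rw [Module.Basis.repr_sum_self]
  let b : Ideal R := Ideal.span {c | ∃ x, f x = 0 ∧ ∃ k, (bas bb R).repr (ψ x) k = c}
  obtain ⟨Q, _, _, q, hqs, hqb⟩ : ∃ (Q : Type u) (_ : CommRing Q) (_ : Algebra A Q)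
      (q : R →ₐ[A] Q), Function.Surjective q ∧ ∀ x, q x = 0 ↔ x ∈ b :=
    ⟨R ⧸ b, inferInstance, inferInstance, Ideal.Quotient.mkₐ A b, Ideal.Quotient.mkₐ_surjective A b,
      fun x => Ideal.Quotient.eq_zero_iff_mem⟩
  have hq : ∀ x, f x = 0 → (Algebra.TensorProduct.map q (AlgHom.id A A')) (ψ x) = 0 := by
    intro x hx
    refine (map_eq_zero_iff bb q _).mpr fun k => ?_
    exact (hqb _).mpr (Ideal.subset_span ⟨x, hx, k, rfl⟩)
  let π₀ : MvPolynomial E A' →+* Q ⊗[A] A' :=
    (Algebra.TensorProduct.map q (AlgHom.id A A')).toRingHom.comp ψ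
  obtain ⟨π, hπ⟩ : ∃ π : E →+* Q ⊗[A] A', ∀ x, π (f x) = π₀ x :=
    exists_ringHom_lift f.toRingHom hf π₀ fun x hx => hq x hx
  refine ⟨Q, inferInstance, inferInstance, π, ?_, ?_⟩
  · intro a
    have h1 : algebraMap A' E a = f (MvPolynomial.C a) := by simp [f]
    rw [h1, hπ]
    change Algebra.TensorProduct.map q (AlgHom.id A A') (ψ (MvPolynomial.C a)) = _
    rw [hψC]
    simp
  intro B _ _ e he
  let φ₀ : R →ₐ[A] B := MvPolynomial.aeval fun s => (bas bb B).repr (e s.1) s.2
  have hφ₀ : ∀ x, Algebra.TensorProduct.map φ₀ (AlgHom.id A A') (ψ x) = e (f x) := by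
    have key : (Algebra.TensorProduct.map φ₀ (AlgHom.id A A')).toRingHom.comp ψ =
        e.comp f.toRingHom := by
      refine MvPolynomial.ringHom_ext (fun a => ?_) fun x => ?_
      · change Algebra.TensorProduct.map φ₀ (AlgHom.id A A') (ψ (MvPolynomial.C a)) =
          e (f (MvPolynomial.C a))
        rw [hψC]
        have h1 : f (MvPolynomial.C a) = algebraMap A' E a := by simp [f]
        rw [h1, he]
        simp
      · change Algebra.TensorProduct.map φ₀ (AlgHom.id A A') (ψ (MvPolynomial.X x)) =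
          e (f (MvPolynomial.X x))
        apply (bas bb B).repr.injective
        ext k
        rw [hcoord]
        have h1 : f (MvPolynomial.X x) = x := by simp [f]
        rw [h1]
        exact MvPolynomial.aeval_X _ _
    exact fun x => DFunLike.congr_fun key x
  have hφb : ∀ c ∈ b, φ₀ c = 0 := by
    have h1 : b ≤ RingHom.ker φ₀ := by
      rw [Ideal.span_le]
      rintro _ ⟨x, hx, k, rfl⟩
      have h2 := (map_eq_zero_iff bb φ₀ (ψ x)).mp (by rw [hφ₀, hx, map_zero]) k
      exact h2
    exact fun c hc => h1 hc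
  obtain ⟨φ, hφ⟩ := exists_algHom_lift q hqs φ₀ fun x hx => hφb x ((hqb x).mp hx)
  have hφq : φ.comp q = φ₀ := AlgHom.ext hφ
  have hmm : ∀ (φ' : Q →ₐ[A] B) (z : R ⊗[A] A'),
      Algebra.TensorProduct.map φ' (AlgHom.id A A')
        (Algebra.TensorProduct.map q (AlgHom.id A A') z) =
      Algebra.TensorProduct.map (φ'.comp q) (AlgHom.id A A') z := by
    intro φ' z
    induction z using TensorProduct.induction_on with
    | zero => simp
    | add x y hx hy => rw [map_add, map_add, map_add, hx, hy]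
    | tmul x y => simp
  refine ⟨φ, ?_, ?_⟩
  · intro x
    obtain ⟨x, rfl⟩ := hf x
    rw [hπ]
    change Algebra.TensorProduct.map φ (AlgHom.id A A')
        (Algebra.TensorProduct.map q (AlgHom.id A A') (ψ x)) = _
    rw [hmm, hφq, hφ₀]
  · intro φ' hφ'
    have h1 : φ'.comp q = φ₀ := by
      refine MvPolynomial.algHom_ext fun s => ?_
      obtain ⟨x, k⟩ := s
      have h2 := hcoord B (φ'.comp q) x k
      rw [← h2]
      simp only [φ₀, MvPolynomial.aeval_X]
      congr 2
      rw [← hφ' x]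
      have h3 : x = f (MvPolynomial.X x) := by simp [f]
      conv_rhs => rw [h3, hπ]
      exact (hmm φ' _).symm
    refine AlgHom.ext fun x => ?_
    obtain ⟨x, rfl⟩ := hqs x
    have := DFunLike.congr_fun (h1.trans hφq.symm) x
    exact this

end K933.WRAlg
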