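import Groth.Agent.Sga7.H742.PowUnram
import Mathlib.AlgebraicGeometry.Morphisms.FlatMono

/-!
# Torsion points which vanish at all points vanish

`H` a group scheme locally of finite presentation over `S` and `m` invertible on `S`: a `T`-valued point
of `H` which is killed by `m` and which is trivial at all points of `T` is trivial.
-/

set_option autoImplicit false

universe u

open CategoryTheory Limits MonoidalCategory CartesianMonoidalCategory MonObj AlgebraicGeometry

namespace K933.WRRigid

open Groth.Agent.Sga7.H742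

variable {S : Scheme.{u}}

/-- a local isomorphism with a retraction is an open immersion -/
lemma isOpenImmersion_of_isLocalIso {X Y : Scheme.{u}} (e : X ⟶ Y) [IsLocalIso e] [Mono e] :
    IsOpenImmersion e := by
  have h1 : Flat e := IsLocalIso.le_of_isZariskiLocalAtSource @Flat _ _ e inferInstance
  have h2' : Etale e := IsLocalIso.le_of_isZariskiLocalAtSource @Etale _ _ e inferInstance
  have h2 : LocallyOfFinitePresentation e := inferInstance
  exact IsOpenImmersion.of_flat_of_mono e

theorem eq_one_of_pow (H : Over S) [GrpObj H] [LocallyOfFinitePresentation H.hom] (m : ℕ)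
    (hm : ∀ s : S, (m : S.residueField s) ≠ 0) {T : Over S} (y : T ⟶ H) (hy : y ^ m = 1)
    (h : ∀ t : T.left, ∃ (T₀ : Over S) (w : T₀ ⟶ T), t ∈ Set.range w.left ∧ w ≫ y = 1) :
    y = 1 := by
  let p := ((𝟙 H : H ⟶ H) ^ m).left
  let η' := (η[H] : 𝟙_ (Over S) ⟶ H).left
  have h1 : η' ≫ p = 𝟙 S ≫ η' := (PowUnram.unit_comp_pow H m).trans (Category.id_comp _).symm
  let e : S ⟶ pullback p η' := pullback.lift η' (𝟙 S) h1
  have he1 : e ≫ pullback.fst p η' = η' := pullback.lift_fst _ _ _
  have he2 : e ≫ pullback.snd p η' = 𝟙 S := pullback.lift_snd _ _ _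
  have hloc : IsLocalIso e := PowUnram.isLocalIso_unit_kerPow H m hm e he1 he2
  have hmono : Mono e := mono_of_mono_fac he2
  have hopen : IsOpenImmersion e := isOpenImmersion_of_isLocalIso e
  have h2 : y.left ≫ p = T.hom ≫ η' := by
    have h3 : y ≫ ((𝟙 H : H ⟶ H) ^ m) = y ^ m := by
      rw [MonObj.comp_pow, Category.comp_id]
    have h4 : y ≫ ((𝟙 H : H ⟶ H) ^ m) = toUnit T ≫ η[H] := h3.trans hy
    have h5 := congrArg (fun k => k.left) h4
    exact h5
  let y' : T.left ⟶ pullback p η' := pullback.lift y.left T.hom h2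
  have hy1 : y' ≫ pullback.fst p η' = y.left := pullback.lift_fst _ _ _
  have hy2 : y' ≫ pullback.snd p η' = T.hom := pullback.lift_snd _ _ _
  have hr : Set.range y' ⊆ Set.range e := by
    rintro _ ⟨t, rfl⟩
    obtain ⟨T₀, w, ⟨t₀, ht₀⟩, hw⟩ := h t
    have hw' : w.left ≫ y.left = T₀.hom ≫ η' := congrArg (fun k => k.left) hw
    have h6 : w.left ≫ y' = T₀.hom ≫ e := by
      apply pullback.hom_ext
      · rw [Category.assoc, Category.assoc, hy1, he1]
        exact hw'
      · rw [Category.assoc, Category.assoc, hy2, he2, Category.comp_id]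
        exact Over.w w
    refine ⟨T₀.hom t₀, ?_⟩
    rw [← ht₀, ← Scheme.Hom.comp_apply, ← Scheme.Hom.comp_apply, h6]
  let g : T.left ⟶ S := IsOpenImmersion.lift e y' hr
  have hg : g ≫ e = y' := IsOpenImmersion.lift_fac _ _ _
  have hg2 : g = T.hom := by
    rw [← hy2, ← hg, Category.assoc, he2]
    exact (Category.comp_id g).symm
  apply Over.OverMorphism.ext
  rw [← hy1, ← hg, Category.assoc, he1, hg2]
  rfl

end K933.WRRigid
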